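/-
Aschbacher's theorem, linear case (S5630 project): shared definitions.  (lead)
Only definitions here; everything else is proved in the files of the module owners.
-/
import Mathlib
import Cfsg.Prelude.Def_GeometricClasses

set_option autoImplicit false

namespace Cfsg.Agent.Lib.Lead.Asch

open Cfsg Cfsg.Geo
open scoped MatrixGroups Matrix Kronecker

/-- `N` is normalised by `H` (no containment assumed). -/
def NormalizedBy {G : Type*} [Group G] (H N : Subgroup G) : Prop :=
  ∀ h ∈ H, ∀ x ∈ N, h * x * h⁻¹ ∈ N

/-- `H` lies in a member of one of the eight geometric classes (linear case). -/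
def Tame {F : Type*} [Field F] [Fintype F] {n : ℕ} (H : Subgroup (GL (Fin n) F)) : Prop :=
  ∃ M : Subgroup (GL (Fin n) F), InLinearClass n F M ∧ H ≤ M

/-- The set of matrices `ρ x`, `x ∈ N`, of a matrix representation of (the elements of) a subgroup. -/
def repSet {F : Type*} [Field F] {n d : ℕ} {N : Subgroup (GL (Fin n) F)} (ρ : N →* GL (Fin d) F) :
    Set (Matrix (Fin d) (Fin d) F) :=
  Set.range fun x : N => ((ρ x : GL (Fin d) F) : Matrix (Fin d) (Fin d) F)

/-- Homogeneous matrix form of a subgroup `N ≤ GL_n(F)`: after the change of basis `P` and the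
re-indexing `e : Fin n ≃ Fin d × Fin k`, every `x ∈ N` is `ρ x ⊗ 1_k` with `ρ` irreducible of degree `d`
(so `F^n` restricted to `N` is the direct sum of `k` copies of one irreducible module of dimension `d`). -/
structure HomogData {F : Type*} [Field F] {n : ℕ} (N : Subgroup (GL (Fin n) F)) where
  d : ℕ
  k : ℕ
  e : Fin n ≃ Fin d × Fin k
  P : GL (Fin n) F
  ρ : N →* GL (Fin d) F
  irr : ActsIrreducibly (repSet ρ)
  eq : ∀ x : N, ((P * (x : GL (Fin n) F) * P⁻¹ : GL (Fin n) F) : Matrix (Fin n) (Fin n) F) =
      Matrix.reindex e.symm e.symm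
        (((ρ x : GL (Fin d) F) : Matrix (Fin d) (Fin d) F) ⊗ₖ (1 : Matrix (Fin k) (Fin k) F))

/-- The standing hypotheses of the second half of the proof: `H` is irreducible and every subgroup
normalised by `H` and contained in it is scalar or absolutely irreducible. -/
structure Good {F : Type*} [Field F] {n : ℕ} (H : Subgroup (GL (Fin n) F)) : Prop where
  irr : ActsIrreducibly (matrixSet H)
  star : ∀ N : Subgroup (GL (Fin n) F), N ≤ H → NormalizedBy H N →
    N ≤ scalars (Fin n) F ∨ ActsAbsolutelyIrreducibly (matrixSet N)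

/-- `N` is minimal among the subgroups of `H` that are normalised by `H`, contain the scalars of `H`
and are not scalar. -/
structure MinimalModScalars {F : Type*} [Field F] {n : ℕ} (H N : Subgroup (GL (Fin n) F)) : Prop where
  le : N ≤ H
  norm : NormalizedBy H N
  scal_le : H ⊓ scalars (Fin n) F ≤ N
  not_scal : ¬ N ≤ scalars (Fin n) F
  min : ∀ N' : Subgroup (GL (Fin n) F), N' ≤ N → NormalizedBy H N' → H ⊓ scalars (Fin n) F ≤ N' →
    N' ≤ scalars (Fin n) F ∨ N' = N

end Cfsg.Agent.Lib.Lead.Asch
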