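/-
Aschbacher's theorem, linear case (S5630 project): the class-by-class form `STame` of `Tame`.  (lead)
`STame H` records WHICH class contains `H` (with `H ≤ M` instead of `M = ...`), and in class 6 also that the
symplectic-type group has scalar commutators (needed by Phase 2 to read off `n = r^m`).
-/
import Cfsg.Agent.Lib.Lead.AschDefs

set_option autoImplicit false

namespace Cfsg.Agent.Lib.Lead.Asch

open Cfsg Cfsg.Geo
open scoped MatrixGroups Matrix Kronecker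

variable {F : Type*} [Field F] [Fintype F] {n : ℕ}

def TameC1 (H : Subgroup (GL (Fin n) F)) : Prop :=
  ∃ W : Submodule F (Fin n → F), W ≠ ⊥ ∧ W ≠ ⊤ ∧ H ≤ subspaceStabilizer W

def TameC2 (H : Subgroup (GL (Fin n) F)) : Prop :=
  ∃ (t m : ℕ) (D : Fin t → Submodule F (Fin n → F)), IsMDecomposition m D ∧ H ≤ decompositionStabilizer D

def TameC3 (H : Subgroup (GL (Fin n) F)) : Prop :=
  ∃ (r : ℕ) (K : Subalgebra F (Matrix (Fin n) (Fin n) F)), r.Prime ∧ IsFieldSubalgebra r K ∧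
    H ≤ subalgebraNormalizer K

def TameC4 (H : Subgroup (GL (Fin n) F)) : Prop :=
  ∃ (n₁ n₂ : ℕ) (e : Fin n ≃ Fin n₁ × Fin n₂) (P : GL (Fin n) F), 2 ≤ n₁ ∧ n₁ < n₂ ∧
    H ≤ tensorProductSubgroup n₁ n₂ e P

def TameC5 (H : Subgroup (GL (Fin n) F)) : Prop :=
  ∃ (F₀ : Subfield F) (r : ℕ) (P : GL (Fin n) F), r.Prime ∧ Fintype.card F = Nat.card F₀ ^ r ∧
    H ≤ subfieldSubgroup F₀ P

/-- class 6, with the extra information that commutators of `R` are scalar. -/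
def TameC6 (H : Subgroup (GL (Fin n) F)) : Prop :=
  ∃ (r : ℕ) (R : Subgroup (GL (Fin n) F)), IsLinearSymplecticTypeData r R ∧
    (∀ x ∈ R, ∀ y ∈ R, x * y * x⁻¹ * y⁻¹ ∈ scalars (Fin n) F) ∧ H ≤ subgroupNormalizer R

def TameC7 (H : Subgroup (GL (Fin n) F)) : Prop :=
  ∃ (m t : ℕ) (e : Fin n ≃ (Fin t → Fin m)) (P : GL (Fin n) F), 3 ≤ m ∧ 2 ≤ t ∧
    H ≤ tensorWreathSubgroup m t e P

def TameC8s (H : Subgroup (GL (Fin n) F)) : Prop :=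
  ∃ f : (Fin n → F) → (Fin n → F) → F, IsSymplecticForm f ∧ Even n ∧ 4 ≤ n ∧ H ≤ similarityGroup f

def TameC8u (H : Subgroup (GL (Fin n) F)) : Prop :=
  ∃ (σ : F ≃+* F) (f : (Fin n → F) → (Fin n → F) → F), IsUnitaryForm σ f ∧ 3 ≤ n ∧ H ≤ similarityGroup f

def TameC8q (H : Subgroup (GL (Fin n) F)) : Prop :=
  ∃ Q : (Fin n → F) → F, IsNondegenerateQuadraticForm Q ∧ Odd (Fintype.card F) ∧ 3 ≤ n ∧
    H ≤ quadSimilarityGroup Q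

/-- class 8 (any of the three kinds of forms). -/
def TameC8 (H : Subgroup (GL (Fin n) F)) : Prop := TameC8s H ∨ TameC8u H ∨ TameC8q H

/-- `H` lies in a member of a geometric class, class by class. -/
def STame (H : Subgroup (GL (Fin n) F)) : Prop :=
  TameC1 H ∨ TameC2 H ∨ TameC3 H ∨ TameC4 H ∨ TameC5 H ∨ TameC6 H ∨ TameC7 H ∨ TameC8 H

theorem STame.tame {H : Subgroup (GL (Fin n) F)} (h : STame H) : Tame H := by
  rcases h with h | h | h | h | h | h | h | h | h | h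
  · obtain ⟨W, h1, h2, h3⟩ := h
    exact ⟨_, Or.inl ⟨W, h1, h2, rfl⟩, h3⟩
  · obtain ⟨t, m, D, h1, h2⟩ := h
    exact ⟨_, Or.inr (Or.inr (Or.inr (Or.inl ⟨t, m, D, h1, rfl⟩))), h2⟩
  · obtain ⟨r, K, h1, h2, h3⟩ := h
    exact ⟨_, Or.inr (Or.inr (Or.inr (Or.inr (Or.inl ⟨r, K, h1, h2, rfl⟩)))), h3⟩
  · obtain ⟨n₁, n₂, e, P, h1, h2, h3⟩ := h
    exact ⟨_, Or.inr (Or.inr (Or.inr (Or.inr (Or.inr (Or.inl ⟨n₁, n₂, e, P, h1, h2, rfl⟩))))), h3⟩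
  · obtain ⟨F₀, r, P, h1, h2, h3⟩ := h
    exact ⟨_, Or.inr (Or.inr (Or.inr (Or.inr (Or.inr (Or.inr (Or.inl ⟨F₀, r, P, h1, h2, rfl⟩)))))), h3⟩
  · obtain ⟨r, R, h1, _, h3⟩ := h
    exact ⟨_, Or.inr (Or.inr (Or.inr (Or.inr (Or.inr (Or.inr (Or.inr (Or.inl ⟨r, R, h1, rfl⟩))))))), h3⟩
  · obtain ⟨m, t, e, P, h1, h2, h3⟩ := h
    exact ⟨_, Or.inr (Or.inr (Or.inr (Or.inr (Or.inr (Or.inr (Or.inr (Or.inr
      (Or.inl ⟨m, t, e, P, h1, h2, rfl⟩)))))))), h3⟩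
  · obtain ⟨f, h1, h2, h3, h4⟩ := h
    exact ⟨_, Or.inr (Or.inr (Or.inr (Or.inr (Or.inr (Or.inr (Or.inr (Or.inr
      (Or.inr (Or.inl ⟨f, h1, h2, h3, rfl⟩))))))))), h4⟩
  · obtain ⟨σ, f, h1, h2, h3⟩ := h
    exact ⟨_, Or.inr (Or.inr (Or.inr (Or.inr (Or.inr (Or.inr (Or.inr (Or.inr
      (Or.inr (Or.inr (Or.inl ⟨σ, f, h1, h2, rfl⟩)))))))))), h3⟩
  · obtain ⟨Q, h1, h2, h3, h4⟩ := h
    exact ⟨_, Or.inr (Or.inr (Or.inr (Or.inr (Or.inr (Or.inr (Or.inr (Or.inr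
      (Or.inr (Or.inr (Or.inr ⟨Q, h1, h2, h3, rfl⟩)))))))))), h4⟩

end Cfsg.Agent.Lib.Lead.Asch
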