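/-
Aschbacher's theorem, UNITARY case (S5663 project): class-by-class predicates.  (lead)
`f = hermForm n F q`, `I = GU n F q`; every predicate says `H ≤ X` for the GL-level member `X` (the class member is `X ⊓ I`).
-/
import Cfsg.Agent.Lib.Lead.AschDefs2

set_option autoImplicit false

namespace Cfsg.Agent.Lib.Lead.Asch

open Cfsg Cfsg.Geo
open scoped MatrixGroups Matrix Kronecker

variable {F : Type*} [Field F] [Fintype F] {n : ℕ}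

def UC1a (q : ℕ) (H : Subgroup (GL (Fin n) F)) : Prop :=
  ∃ W : Submodule F (Fin n → F), W ≠ ⊥ ∧ IsTotallySingularFor (hermForm n F q) W ∧ H ≤ subspaceStabilizer W

def UC1b (q : ℕ) (H : Subgroup (GL (Fin n) F)) : Prop :=
  ∃ W : Submodule F (Fin n → F), W ≠ ⊥ ∧ IsNondegenerateOn (hermForm n F q) W ∧
    2 * Module.finrank F W < n ∧ H ≤ subspaceStabilizer W

def UC2a (q : ℕ) (H : Subgroup (GL (Fin n) F)) : Prop :=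
  ∃ (t k : ℕ) (D : Fin t → Submodule F (Fin n → F)), IsNondegenerateMDecomposition (hermForm n F q) k D ∧
    H ≤ decompositionStabilizer D

def UC2b (q : ℕ) (H : Subgroup (GL (Fin n) F)) : Prop :=
  ∃ (k : ℕ) (D : Fin 2 → Submodule F (Fin n → F)), 2 * k = n ∧ IsMDecomposition k D ∧
    (∀ i, IsTotallySingularFor (hermForm n F q) (D i)) ∧ H ≤ decompositionStabilizer D

def UC3 (q : ℕ) (H : Subgroup (GL (Fin n) F)) : Prop :=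
  ∃ (r : ℕ) (K : Subalgebra F (Matrix (Fin n) (Fin n) F)), r.Prime ∧ Odd r ∧ IsFieldSubalgebra r K ∧
    IsAdjointClosedFor (hermForm n F q) K ∧ H ≤ subalgebraNormalizer K

def UC4 (q : ℕ) (H : Subgroup (GL (Fin n) F)) : Prop :=
  ∃ (n₁ n₂ : ℕ) (e : Fin n ≃ Fin n₁ × Fin n₂) (P : GL (Fin n) F)
    (f₁ : (Fin n₁ → F) → (Fin n₁ → F) → F) (f₂ : (Fin n₂ → F) → (Fin n₂ → F) → F),
    2 ≤ n₁ ∧ n₁ < n₂ ∧ IsUnitaryFormPow q f₁ ∧ IsUnitaryFormPow q f₂ ∧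
    IsTensorFormStructure (fun x : F => x ^ q) (hermForm n F q) f₁ f₂ e P ∧ H ≤ tensorProductSubgroup n₁ n₂ e P

def UC5a (q : ℕ) (H : Subgroup (GL (Fin n) F)) : Prop :=
  ∃ (F₀ : Subfield F) (r : ℕ) (P : GL (Fin n) F), r.Prime ∧ Odd r ∧ Fintype.card F = Nat.card F₀ ^ r ∧
    IsFormRationalStructure (hermForm n F q) F₀ 1 P ∧ H ≤ subfieldSubgroup F₀ P

def UC5b (q : ℕ) (H : Subgroup (GL (Fin n) F)) : Prop :=
  ∃ (F₀ : Subfield F) (P : GL (Fin n) F), Odd q ∧ Fintype.card F = Nat.card F₀ ^ 2 ∧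
    IsFormRationalStructure (hermForm n F q) F₀ 1 P ∧ H ≤ subfieldSubgroup F₀ P

def UC5c (q : ℕ) (H : Subgroup (GL (Fin n) F)) : Prop :=
  ∃ (F₀ : Subfield F) (P : GL (Fin n) F) (ζ : F), Even n ∧ Fintype.card F = Nat.card F₀ ^ 2 ∧ ζ ≠ 0 ∧
    ζ + ζ ^ q = 0 ∧ IsFormRationalStructure (hermForm n F q) F₀ ζ P ∧
    (∀ u : Fin n → F, (∀ i, u i ∈ F₀) →
      hermForm n F q ((P : Matrix (Fin n) (Fin n) F) *ᵥ u) ((P : Matrix (Fin n) (Fin n) F) *ᵥ u) = 0) ∧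
    H ≤ subfieldSubgroup F₀ P

/-- class 6 (unitary), with the extra information that commutators of `R` are scalar. -/
def UC6 (q : ℕ) (H : Subgroup (GL (Fin n) F)) : Prop :=
  ∃ (r : ℕ) (R : Subgroup (GL (Fin n) F)) (p e k : ℕ), IsSymplecticTypeGroup r R ∧
    ActsAbsolutelyIrreducibly (matrixSet R) ∧ R ≤ similarityGroup (hermForm n F q) ∧ r ≠ p ∧
    IsMinimalFieldFor (Nat.card (Subgroup.center R)) p e F ∧
    ((Odd r ∧ Nat.card (Subgroup.center R) = r ∧ 1 ≤ k ∧ Nat.card R = r ^ (1 + 2 * k)) ∨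
     (r = 2 ∧ e = 2 ∧ Nat.card (Subgroup.center R) = 4 ∧ Nat.card R = 2 ^ (2 + 2 * k))) ∧
    (∀ x ∈ R, ∀ y ∈ R, x * y * x⁻¹ * y⁻¹ ∈ scalars (Fin n) F) ∧ H ≤ subgroupNormalizer R

def UC7 (q : ℕ) (H : Subgroup (GL (Fin n) F)) : Prop :=
  ∃ (k t : ℕ) (e : Fin n ≃ (Fin t → Fin k)) (P : GL (Fin n) F) (f₁ : (Fin k → F) → (Fin k → F) → F),
    3 ≤ k ∧ 2 ≤ t ∧ ¬ (q = 2 ∧ k = 3) ∧ IsUnitaryFormPow q f₁ ∧
    IsTensorPowerFormStructure (fun x : F => x ^ q) (hermForm n F q) f₁ e P ∧ H ≤ tensorWreathSubgroup k t e P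

def UC1 (q : ℕ) (H : Subgroup (GL (Fin n) F)) : Prop := UC1a q H ∨ UC1b q H
def UC2 (q : ℕ) (H : Subgroup (GL (Fin n) F)) : Prop := UC2a q H ∨ UC2b q H
def UC5 (q : ℕ) (H : Subgroup (GL (Fin n) F)) : Prop := UC5a q H ∨ UC5b q H ∨ UC5c q H

/-- `H` lies in a member of a geometric class of the unitary group, class by class. -/
def UTame (q : ℕ) (H : Subgroup (GL (Fin n) F)) : Prop :=
  UC1 q H ∨ UC2 q H ∨ UC3 q H ∨ UC4 q H ∨ UC5 q H ∨ UC6 q H ∨ UC7 q H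

theorem UTame.tame {q : ℕ} {H : Subgroup (GL (Fin n) F)} (hH : H ≤ GU n F q) (h : UTame q H) :
    ∃ M : Subgroup (GL (Fin n) F), InUnitaryClass n F q M ∧ H ≤ M := by
  rcases h with (h | h) | (h | h) | h | h | (h | h | h) | h | h
  · obtain ⟨W, h1, h2, h3⟩ := h
    exact ⟨_, Or.inl (Or.inl ⟨W, h1, h2, rfl⟩), le_inf h3 hH⟩
  · obtain ⟨W, h1, h2, h3, h4⟩ := h
    exact ⟨_, Or.inl (Or.inr (Or.inl ⟨W, h1, h2, h3, rfl⟩)), le_inf h4 hH⟩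
  · obtain ⟨t, k, D, h1, h2⟩ := h
    exact ⟨_, Or.inl (Or.inr (Or.inr (Or.inl ⟨t, k, D, h1, rfl⟩))), le_inf h2 hH⟩
  · obtain ⟨k, D, h1, h2, h3, h4⟩ := h
    exact ⟨_, Or.inl (Or.inr (Or.inr (Or.inr (Or.inl ⟨k, D, h1, h2, h3, rfl⟩)))), le_inf h4 hH⟩
  · obtain ⟨r, K, h1, h2, h3, h4, h5⟩ := h
    exact ⟨_, Or.inr (Or.inl ⟨r, K, h1, h2, h3, h4, rfl⟩), le_inf h5 hH⟩
  · obtain ⟨n₁, n₂, e, P, f₁, f₂, h1, h2, h3, h4, h5, h6⟩ := h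
    exact ⟨_, Or.inr (Or.inr (Or.inl ⟨n₁, n₂, e, P, f₁, f₂, h1, h2, h3, h4, h5, rfl⟩)), le_inf h6 hH⟩
  · obtain ⟨F₀, r, P, h1, h2, h3, h4, h5⟩ := h
    exact ⟨_, Or.inl (Or.inr (Or.inr (Or.inr (Or.inr (Or.inl ⟨F₀, r, P, h1, h2, h3, h4, rfl⟩))))),
      le_inf h5 hH⟩
  · obtain ⟨F₀, P, h1, h2, h3, h4⟩ := h
    exact ⟨_, Or.inl (Or.inr (Or.inr (Or.inr (Or.inr (Or.inr (Or.inl ⟨F₀, P, h1, h2, h3, rfl⟩)))))),
      le_inf h4 hH⟩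
  · obtain ⟨F₀, P, ζ, h1, h2, h3, h4, h5, h6, h7⟩ := h
    exact ⟨_, Or.inl (Or.inr (Or.inr (Or.inr (Or.inr (Or.inr (Or.inr
      (Or.inl ⟨F₀, P, ζ, h1, h2, h3, h4, h5, h6, rfl⟩))))))), le_inf h7 hH⟩
  · obtain ⟨r, R, p, e, k, h1, h2, h3, h4, h5, h6, _, h8⟩ := h
    exact ⟨_, Or.inl (Or.inr (Or.inr (Or.inr (Or.inr (Or.inr (Or.inr
      (Or.inr ⟨r, R, p, e, k, h1, h2, h3, h4, h5, h6, rfl⟩))))))), le_inf h8 hH⟩
  · obtain ⟨k, t, e, P, f₁, h1, h2, h3, h4, h5, h6⟩ := h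
    exact ⟨_, Or.inr (Or.inr (Or.inr ⟨k, t, e, P, f₁, h1, h2, h3, h4, h5, rfl⟩)), le_inf h6 hH⟩

end Cfsg.Agent.Lib.Lead.Asch
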