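/-
Aschbacher's theorem, UNITARY case (S5663): final assembly (lead), parametrised by the tensor module UM4.
`umain_strong_of : UTame q H ∨ InUnitaryResidualClass H` for every subgroup `H` of `GU_n(q)`, `n ≥ 3`, from the modules
UM1 (helper17), UM2 (helper8, helper3), UM3 (helper4), UM7 (helper1, helper25), UM8 (helper16, helper26, helper2),
the tools UT4 (helper20), UT5 / UT5' (helper25) and the linear modules M5, M6 (helper8, helper17), given the statement of UM4.
-/
import Cfsg.Agent.Lib.Lead.AschUDefs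
import Cfsg.Agent.Lib.H17.AschUM1
import Cfsg.Agent.Lib.H17.AschM1
import Cfsg.Agent.Lib.H17.AschM6
import Cfsg.Agent.Lib.H8.AschUM2
import Cfsg.Agent.Lib.H8.AschM5
import Cfsg.Agent.Lib.H4.AschUM3
import Cfsg.Agent.Lib.H1.AschUM7
import Cfsg.Agent.Lib.H16.AschUM8

set_option autoImplicit false

namespace Cfsg.Agent.Lib.Lead.Asch

open Cfsg Cfsg.Geo
open scoped MatrixGroups Matrix Kronecker

variable {F : Type*} [Field F] [Fintype F] {n q : ℕ}

/-- The statement of the module UM4 (tensor case of a homogeneous normal subgroup) for one subgroup `H`. -/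
def UM4Stmt (q : ℕ) (H : Subgroup (GL (Fin n) F)) : Prop :=
  ∀ N : Subgroup (GL (Fin n) F), N ≤ H → NormalizedBy H N → ∀ D : HomogData N,
    ActsAbsolutelyIrreducibly (repSet D.ρ) → 2 ≤ D.d → 2 ≤ D.k →
    UC4 q H ∨ UC7 q H ∨ UC5 q H ∨ UC6 q H

theorem good_of_not_utame_of (hF : Fintype.card F = q ^ 2) (hn : 3 ≤ n) (H : Subgroup (GL (Fin n) F))
    (hH : H ≤ GU n F q) (h4 : UM4Stmt q H) (hnt : ¬ UTame q H) : Good H := by
  have hirr : ActsIrreducibly (matrixSet H) := by
    by_contra h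
    refine hnt ((Cfsg.Agent.Lib.H17.Asch.utame_of_reducible hF H hH h).elim Or.inl
      (fun h2 => Or.inr (Or.inl (Or.inl h2))))
  have hnt2 : ¬ UC2 q H := fun h => hnt (Or.inr (Or.inl h))
  refine ⟨hirr, fun N hNH hnorm => ?_⟩
  obtain ⟨D⟩ := Cfsg.Agent.Lib.H8.Asch.exists_homogData_unitary hF (by omega) H N hH hirr hnt2 hNH hnorm
  by_cases habs : ActsAbsolutelyIrreducibly (repSet D.ρ)
  · by_cases hd : D.d ≤ 1
    · exact Or.inl (Cfsg.Agent.Lib.H8.Asch.le_scalars_of_homog_d_le_one N D hd)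
    · by_cases hk : D.k ≤ 1
      · exact Or.inr (Cfsg.Agent.Lib.H8.Asch.absIrr_of_homog_k_le_one (by omega) N D habs hk)
      · refine absurd ?_ hnt
        have h4' := h4 N hNH hnorm D habs (by omega) (by omega)
        refine h4'.elim (fun h => ?_) (fun h4 => h4.elim (fun h => ?_)
          (fun h4 => h4.elim (fun h => ?_) (fun h => ?_)))
        · exact Or.inr (Or.inr (Or.inr (Or.inl h)))
        · exact Or.inr (Or.inr (Or.inr (Or.inr (Or.inr (Or.inr h)))))
        · exact Or.inr (Or.inr (Or.inr (Or.inr (Or.inl h))))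
        · exact Or.inr (Or.inr (Or.inr (Or.inr (Or.inr (Or.inl h)))))
  · exact absurd (Or.inr (Or.inr (Or.inl
      (Cfsg.Agent.Lib.H4.Asch.utame_of_homog_not_absIrr hF (by omega) H N hH hNH hnorm D habs)))) hnt

/-- The class-by-class form of S5663 for a subgroup `H` of `GU_n(q)`, `n ≥ 3`, given UM4 for `H`. -/
theorem umain_strong_of (hF : Fintype.card F = q ^ 2) (hn : 3 ≤ n) (H : Subgroup (GL (Fin n) F))
    (hH : H ≤ GU n F q) (h4 : UM4Stmt q H) : UTame q H ∨ InUnitaryResidualClass H := by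
  by_cases hnt : UTame q H
  · exact Or.inl hnt
  have hgood : Good H := good_of_not_utame_of hF hn H hH h4 hnt
  have hns : ¬ H ≤ scalars (Fin n) F :=
    Cfsg.Agent.Lib.H17.Asch.not_le_scalars_of_irreducible (by omega) H hgood.irr
  obtain ⟨N, hmin⟩ := Cfsg.Agent.Lib.H17.Asch.exists_minimalModScalars H hns
  by_cases hab : ∀ x ∈ N, ∀ y ∈ N, x * y * x⁻¹ * y⁻¹ ∈ scalars (Fin n) F
  · refine Or.inl ((Cfsg.Agent.Lib.H1.Asch.utame_of_abelian_minimal hF hn H N hH hgood hmin hab).elim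
      (fun h => ?_) (fun h => ?_))
    · exact Or.inr (Or.inr (Or.inr (Or.inr (Or.inl h))))
    · exact Or.inr (Or.inr (Or.inr (Or.inr (Or.inr (Or.inl h)))))
  · refine (Cfsg.Agent.Lib.H16.Asch.utame_or_residual_of_nonabelian_minimal hF hn H N hH hgood hmin hab).elim
      (fun h => Or.inl (h.elim (fun h => ?_) (fun h => ?_))) Or.inr
    · exact Or.inr (Or.inr (Or.inr (Or.inr (Or.inl h))))
    · exact Or.inr (Or.inr (Or.inr (Or.inr (Or.inr (Or.inr h)))))

end Cfsg.Agent.Lib.Lead.Asch
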