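/-
Aschbacher's theorem, UNITARY case (S5663 project), mini-project U9 ((q, k) = (2, 3), n = 9): shared definition. (lead)
`U3Data f₁ R₁ u`: the extraspecial group `R₁ = 3^{1+2}` inside the isometry group of a unitary form `f₁` on `F^3`, `|F| = 4`,
normalised by all isometries of `f₁`, together with a "Fourier" isometry `u` such that no non-scalar `r ∈ R₁` commutes with `u r u⁻¹`.
-/
import Cfsg.Agent.Lib.Lead.AschUDefs

set_option autoImplicit false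

namespace Cfsg.Agent.Lib.Lead.Asch

open Cfsg Cfsg.Geo
open scoped MatrixGroups Matrix Kronecker

structure U3Data {F : Type*} [Field F] (f₁ : (Fin 3 → F) → (Fin 3 → F) → F)
    (R₁ : Subgroup (GL (Fin 3) F)) (u : GL (Fin 3) F) : Prop where
  /-- `R₁` consists of isometries of `f₁` -/
  fix : ∀ r ∈ R₁, ∀ x y : Fin 3 → F,
    f₁ ((r : Matrix (Fin 3) (Fin 3) F) *ᵥ x) ((r : Matrix (Fin 3) (Fin 3) F) *ᵥ y) = f₁ x y
  /-- every isometry of `f₁` normalises `R₁` -/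
  norm : ∀ a : GL (Fin 3) F, (∀ x y : Fin 3 → F,
      f₁ ((a : Matrix (Fin 3) (Fin 3) F) *ᵥ x) ((a : Matrix (Fin 3) (Fin 3) F) *ᵥ y) = f₁ x y) →
    ∀ r ∈ R₁, a * r * a⁻¹ ∈ R₁
  /-- commutators of `R₁` are scalar -/
  comm : ∀ r ∈ R₁, ∀ s ∈ R₁, r * s * r⁻¹ * s⁻¹ ∈ scalars (Fin 3) F
  /-- exponent 3 -/
  pow : ∀ r ∈ R₁, r ^ 3 = 1
  /-- `R₁` spans the matrix algebra (so it is absolutely irreducible) -/
  span : Submodule.span F (matrixSet R₁) = ⊤
  /-- `u` is an isometry of `f₁` -/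
  ufix : ∀ x y : Fin 3 → F,
    f₁ ((u : Matrix (Fin 3) (Fin 3) F) *ᵥ x) ((u : Matrix (Fin 3) (Fin 3) F) *ᵥ y) = f₁ x y
  /-- a non-scalar element of `R₁` does not commute with its conjugate by `u` -/
  unc : ∀ r ∈ R₁, r ∉ scalars (Fin 3) F → (u * r * u⁻¹) * r ≠ r * (u * r * u⁻¹)

end Cfsg.Agent.Lib.Lead.Asch
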