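/-
Aschbacher program (lead): the tensor-induced data of M8.3 (helper16's `tame_of_components_aux`, Lib/H16/AschM8C),
re-exported as an existence statement so that the unitary / symplectic / orthogonal cases can reuse it.
The proof is helper16's, cut before the final case distinction on the dimension of the factors.
-/
import Cfsg.Agent.Lib.H16.AschM8C

set_option autoImplicit false

namespace Cfsg.Agent.Lib.Lead.Asch

open Cfsg Cfsg.Geo Cfsg.Agent.Lib.Lead.Asch Cfsg.Agent.Lib.H26.Asch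
  Cfsg.Agent.Lib.H21.Asch Cfsg.Agent.Lib.H6.Asch Cfsg.Agent.Lib.H8.Asch Cfsg.Agent.Lib.H4.Asch
  Cfsg.Agent.Lib.H14.Asch Cfsg.Agent.Lib.H16.Asch
open scoped MatrixGroups Matrix Kronecker

variable {F : Type*} [Field F] {n : ℕ}

/-- **Tensor data** of at least two components (helper16's M8.3 construction): a tensor basis `(e', Q)` in which
every element of `L i` acts in position `i` through one absolutely irreducible perfect matrix group `S ≤ GL_m(F)`
(the same `S` for all positions), and `H` lies in the tensor wreath subgroup. -/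
theorem exists_tensor_data' [Fintype F] (hn : 3 ≤ n) (H : Subgroup (GL (Fin n) F)) (hgood : Good H)
    (t : ℕ) (L : Fin t → Subgroup (GL (Fin n) F)) (ht : 2 ≤ t)
    (hle : ∀ i, L i ≤ H) (hperf : ∀ i, ⁅L i, L i⁆ = L i)
    (hcomm : ∀ i j, i ≠ j → ∀ x ∈ L i, ∀ y ∈ L j, x * y = y * x)
    (hperm : ∀ h ∈ H, ∃ σ : Equiv.Perm (Fin t), ∀ i, (L i).map (MulAut.conj h).toMonoidHom = L (σ i))
    (htrans : ∀ i j, ∃ h ∈ H, (L i).map (MulAut.conj h).toMonoidHom = L j)
    (hns : ∀ i, ¬ L i ≤ scalars (Fin n) F) :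
    ∃ (m : ℕ) (e' : Fin n ≃ (Fin t → Fin m)) (Q : GL (Fin n) F) (S : Subgroup (GL (Fin m) F)),
      2 ≤ m ∧ ActsAbsolutelyIrreducibly (matrixSet S) ∧ ⁅S, S⁆ = S ∧
      (∀ a ∈ S, ((a : GL (Fin m) F) : Matrix (Fin m) (Fin m) F).det = 1) ∧
      (∀ i, ∀ y ∈ L i, ∃ a ∈ S, (y : Matrix (Fin n) (Fin n) F) =
        (Q : Matrix (Fin n) (Fin n) F) *
          Matrix.reindex e'.symm e'.symm
            (posEmb i ((a : GL (Fin m) F) : Matrix (Fin m) (Fin m) F)) *
          ((Q⁻¹ : GL (Fin n) F) : Matrix (Fin n) (Fin n) F)) ∧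
      (∀ i, ∀ a ∈ S, ∃ y ∈ L i, (y : Matrix (Fin n) (Fin n) F) =
        (Q : Matrix (Fin n) (Fin n) F) *
          Matrix.reindex e'.symm e'.symm
            (posEmb i ((a : GL (Fin m) F) : Matrix (Fin m) (Fin m) F)) *
          ((Q⁻¹ : GL (Fin n) F) : Matrix (Fin n) (Fin n) F)) ∧
      H ≤ tensorWreathSubgroup m t e' Q ∧
      ActsAbsolutelyIrreducibly (matrixSet (⨆ i, L i)) ∧ NormalizedBy H (⨆ i, L i) := by
  classical
  have hn0 : 0 < n := by omega
  have ht0 : 0 < t := by omega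
  set i0 : Fin t := ⟨0, ht0⟩ with hi0
  set Ls : Subgroup (GL (Fin n) F) := ⨆ i, L i with hLs
  have hLsH : Ls ≤ H := iSup_le hle
  have hLsN : NormalizedBy H Ls := normalizedBy_iSup H L hperm
  have hLsns : ¬ Ls ≤ scalars (Fin n) F := fun h => hns i0 ((le_iSup L i0).trans h)
  have habsL : ActsAbsolutelyIrreducibly (matrixSet Ls) :=
    (hgood.star Ls hLsH hLsN).resolve_left hLsns
  have hAB : L i0 ⊔ (⨆ j : {j : Fin t // j ≠ i0}, L j.1) = Ls := sup_iSup_ne L i0
  have hcAB := commute_iSup_ne L i0 hcomm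
  obtain ⟨D⟩ := exists_homogData_of_commuting hn0 Ls (L i0) _ habsL.1 hAB.symm hcAB
  have hρabs : ActsAbsolutelyIrreducibly (repSet D.ρ) :=
    absIrr_rep_of_commuting hn0 (L i0) _ hcAB (hAB ▸ habsL) D
  have hm2 : 2 ≤ D.d := by
    by_contra hlt
    exact hns i0 (le_scalars_of_homog_d_le_one (L i0) D (by omega))
  obtain ⟨m, k, e, P, ρ, hirrρ, heq⟩ := D
  dsimp only at hρabs hm2
  -- Burnside
  have hspan : Submodule.span F (repSet ρ) = ⊤ := by
    have := Cfsg.Agent.Lib.H3.Asch.span_eq_top_of_absIrr ρ.range (by rw [matrixSet_range]; exact hρabs)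
    rwa [matrixSet_range] at this
  -- conjugating elements
  choose hc hcH hcmap using fun i => htrans i0 i
  let φ : Fin t → (Matrix (Fin m) (Fin m) F →ₐ[F] Matrix (Fin n) (Fin n) F) :=
    fun i => phiHom e (hc i * P⁻¹)
  have hφ1 : ∀ i, ∀ y ∈ L i, ∃ x : L i0, (y : Matrix (Fin n) (Fin n) F) =
      φ i ((ρ x : GL (Fin m) F) : Matrix (Fin m) (Fin m) F) := by
    intro i y hy
    rw [← hcmap i] at hy
    obtain ⟨x, hx, rfl⟩ := Subgroup.mem_map.1 hy
    refine ⟨⟨x, hx⟩, ?_⟩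
    show _ = phiHom e (hc i * P⁻¹) _
    rw [phiHom_apply, ← heq ⟨x, hx⟩, ← Units.val_mul, ← Units.val_mul]
    congr 1
    simp only [MulEquiv.coe_toMonoidHom, MulAut.conj_apply]
    group
  have hφ2 : ∀ i a, φ i a ∈ Submodule.span F (matrixSet (L i)) := by
    intro i a
    have ha : a ∈ Submodule.span F (repSet ρ) := by rw [hspan]; trivial
    induction ha using Submodule.span_induction with
    | mem b hb =>
      obtain ⟨x, rfl⟩ := hb
      apply Submodule.subset_span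
      refine ⟨hc i * (x : GL (Fin n) F) * (hc i)⁻¹, ?_, ?_⟩
      · rw [← hcmap i]
        exact Subgroup.mem_map.2 ⟨x, x.2, by simp [MulAut.conj_apply]⟩
      · show _ = phiHom e (hc i * P⁻¹) _
        rw [phiHom_apply, ← heq x, ← Units.val_mul, ← Units.val_mul]
        congr 1
        group
    | zero => rw [map_zero]; exact Submodule.zero_mem _
    | add a b _ _ ha hb => rw [map_add]; exact Submodule.add_mem _ ha hb
    | smul c a _ ha => rw [map_smul]; exact Submodule.smul_mem _ c ha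
  have hφ2' : ∀ i, ∀ z ∈ Submodule.span F (matrixSet (L i)), ∃ a, φ i a = z := by
    intro i z hz
    induction hz using Submodule.span_induction with
    | mem y hy =>
      obtain ⟨g, hg, rfl⟩ := hy
      obtain ⟨x, hx⟩ := hφ1 i g hg
      exact ⟨_, hx.symm⟩
    | zero => exact ⟨0, map_zero _⟩
    | add a b _ _ ha hb =>
      obtain ⟨a', rfl⟩ := ha
      obtain ⟨b', rfl⟩ := hb
      exact ⟨a' + b', map_add _ _ _⟩
    | smul c a _ ha =>
      obtain ⟨a', rfl⟩ := ha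
      exact ⟨c • a', map_smul _ _ _⟩
  have hφ3 : ∀ i j, i ≠ j → ∀ a b, φ i a * φ j b = φ j b * φ i a := by
    intro i j hij a b
    refine commute_of_mem_span (F := F) (matrixSet (L i)) (matrixSet (L j)) ?_ _ _ (hφ2 i a) (hφ2 j b)
    rintro _ ⟨x, hx, rfl⟩ _ ⟨y, hy, rfl⟩
    rw [← Units.val_mul, ← Units.val_mul, hcomm i j hij x hx y hy]
  have hφ4 : ∀ W : Submodule F (Fin n → F),
      (∀ i a, W.map (Matrix.toLin' (φ i a)) ≤ W) → W = ⊥ ∨ W = ⊤ := by
    intro W hW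
    apply habsL.1 W
    rintro _ ⟨g, hg, rfl⟩
    refine map_le_of_mem_iSup L W ?_ g hg
    intro i y hy
    obtain ⟨x, hx⟩ := hφ1 i y hy
    rw [hx]
    exact hW i _
  obtain ⟨e', Q, hQ⟩ := exists_tensor_basis hn0 (by omega) ht0 φ hφ3 hφ4
  -- `Rq` : reindexing as an algebra equivalence
  set Rq : Matrix (Fin t → Fin m) (Fin t → Fin m) F ≃ₐ[F] Matrix (Fin n) (Fin n) F :=
    Matrix.reindexAlgEquiv F F e'.symm with hRq
  have hQ' : ∀ i a, φ i a = conjAlgHom Q (Rq (posEmb i a)) := by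
    intro i a
    rw [hQ i a]
    rfl
  -- every element of `H` is permutation * pure tensor in the tensor basis
  have hmem : ∀ h ∈ H, h ∈ tensorWreathSubgroup m t e' Q := by
    intro h hh
    obtain ⟨σ, hσ⟩ := hperm h hh
    have hconj : ∀ i, ∀ z ∈ Submodule.span F (matrixSet (L i)),
        conjAlgHom h z ∈ Submodule.span F (matrixSet (L (σ i))) := by
      intro i z hz
      induction hz using Submodule.span_induction with
      | mem y hy =>
        obtain ⟨g, hg, rfl⟩ := hy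
        apply Submodule.subset_span
        refine ⟨h * g * h⁻¹, ?_, ?_⟩
        · rw [← hσ i]
          exact Subgroup.mem_map.2 ⟨g, hg, by simp [MulAut.conj_apply]⟩
        · show ((h * g * h⁻¹ : GL (Fin n) F) : Matrix (Fin n) (Fin n) F) = _
          rw [conjAlgHom_apply, Units.val_mul, Units.val_mul]
      | zero => rw [map_zero]; exact Submodule.zero_mem _
      | add a b _ _ ha hb => rw [map_add]; exact Submodule.add_mem _ ha hb
      | smul c a _ ha => rw [map_smul]; exact Submodule.smul_mem _ c ha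
    set G0 : GL (Fin n) F := Q⁻¹ * h * Q with hG0
    have hG0' : ∀ i a, ∃ a', (G0 : Matrix (Fin n) (Fin n) F) * Rq (posEmb i a) =
        Rq (posEmb (σ i) a') * (G0 : Matrix (Fin n) (Fin n) F) := by
      intro i a
      obtain ⟨a', ha'⟩ := hφ2' (σ i) _ (hconj i _ (hφ2 i a))
      refine ⟨a', ?_⟩
      rw [hQ', hQ'] at ha'
      -- ha' : conj Q (Rq X') = conj h (conj Q (Rq X))
      have h1 : Rq (posEmb (σ i) a') = conjAlgHom G0 (Rq (posEmb i a)) := by
        rw [hG0, conjAlgHom_mul, conjAlgHom_mul, ← ha', conjAlgHom_inv_conj]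
      rw [h1, conjAlgHom_mul_self]
    let g : GL (Fin t → Fin m) F := glReindex e' G0
    have hgval : (g : Matrix (Fin t → Fin m) (Fin t → Fin m) F) =
        Rq.symm (G0 : Matrix (Fin n) (Fin n) F) := rfl
    have hg : ∀ i (a : Matrix (Fin m) (Fin m) F), ∃ a' : Matrix (Fin m) (Fin m) F,
        (g : Matrix (Fin t → Fin m) (Fin t → Fin m) F) * posEmb i a =
          posEmb (σ i) a' * (g : Matrix (Fin t → Fin m) (Fin t → Fin m) F) := by
      intro i a
      obtain ⟨a', ha'⟩ := hG0' i a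
      refine ⟨a', ?_⟩
      apply Rq.injective
      rw [hgval, map_mul, map_mul, AlgEquiv.apply_symm_apply]
      exact ha'
    obtain ⟨gs, hgs⟩ := perm_pure_of_permutes (by omega) ht0 g σ hg
    apply mem_tensorWreathSubgroup_of_eq e' Q h σ gs
    have h2 : (G0 : Matrix (Fin n) (Fin n) F) =
        Rq (permMat σ * pureT (fun i => ((gs i : GL (Fin m) F) : Matrix (Fin m) (Fin m) F))) := by
      rw [← hgs, hgval, AlgEquiv.apply_symm_apply]
    have h3 : h = Q * G0 * Q⁻¹ := by rw [hG0]; group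
    rw [h3, Units.val_mul, Units.val_mul, h2]
    rfl
  refine ⟨m, e', Q, ρ.range, hm2, by rw [matrixSet_range]; exact hρabs, ?_, ?_, ?_, ?_, hmem, habsL, hLsN⟩
  · -- the image of a perfect group is perfect
    have hc : ⁅(⊤ : Subgroup (L i0)), (⊤ : Subgroup (L i0))⁆ = ⊤ := by
      apply Subgroup.map_injective (L i0).subtype_injective
      rw [Subgroup.map_commutator, ← MonoidHom.range_eq_map, Subgroup.range_subtype, hperf i0]
    rw [MonoidHom.range_eq_map, ← Subgroup.map_commutator, hc]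
  · rintro a ⟨x, rfl⟩
    exact det_eq_one_of_perfect (L i0) (hperf i0) ρ x
  · intro i y hy
    obtain ⟨x, hx⟩ := hφ1 i y hy
    refine ⟨ρ x, ⟨x, rfl⟩, ?_⟩
    rw [hx, hQ', conjAlgHom_apply]
    rfl
  · rintro i a ⟨x, rfl⟩
    refine ⟨hc i * (x : GL (Fin n) F) * (hc i)⁻¹, ?_, ?_⟩
    · rw [← hcmap i]
      exact Subgroup.mem_map.2 ⟨x, x.2, by simp [MulAut.conj_apply]⟩
    · have h1 : ((hc i * (x : GL (Fin n) F) * (hc i)⁻¹ : GL (Fin n) F) : Matrix (Fin n) (Fin n) F) =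
          φ i ((ρ x : GL (Fin m) F) : Matrix (Fin m) (Fin m) F) := by
        show _ = phiHom e (hc i * P⁻¹) _
        rw [phiHom_apply, ← heq x, ← Units.val_mul, ← Units.val_mul]
        congr 1
        group
      rw [h1, hQ', conjAlgHom_apply]
      rfl

/-- The version without the converse clause (kept for compatibility). -/
theorem exists_tensor_data [Fintype F] (hn : 3 ≤ n) (H : Subgroup (GL (Fin n) F)) (hgood : Good H)
    (t : ℕ) (L : Fin t → Subgroup (GL (Fin n) F)) (ht : 2 ≤ t)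
    (hle : ∀ i, L i ≤ H) (hperf : ∀ i, ⁅L i, L i⁆ = L i)
    (hcomm : ∀ i j, i ≠ j → ∀ x ∈ L i, ∀ y ∈ L j, x * y = y * x)
    (hperm : ∀ h ∈ H, ∃ σ : Equiv.Perm (Fin t), ∀ i, (L i).map (MulAut.conj h).toMonoidHom = L (σ i))
    (htrans : ∀ i j, ∃ h ∈ H, (L i).map (MulAut.conj h).toMonoidHom = L j)
    (hns : ∀ i, ¬ L i ≤ scalars (Fin n) F) :
    ∃ (m : ℕ) (e' : Fin n ≃ (Fin t → Fin m)) (Q : GL (Fin n) F) (S : Subgroup (GL (Fin m) F)),
      2 ≤ m ∧ ActsAbsolutelyIrreducibly (matrixSet S) ∧ ⁅S, S⁆ = S ∧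
      (∀ a ∈ S, ((a : GL (Fin m) F) : Matrix (Fin m) (Fin m) F).det = 1) ∧
      (∀ i, ∀ y ∈ L i, ∃ a ∈ S, (y : Matrix (Fin n) (Fin n) F) =
        (Q : Matrix (Fin n) (Fin n) F) *
          Matrix.reindex e'.symm e'.symm
            (posEmb i ((a : GL (Fin m) F) : Matrix (Fin m) (Fin m) F)) *
          ((Q⁻¹ : GL (Fin n) F) : Matrix (Fin n) (Fin n) F)) ∧
      H ≤ tensorWreathSubgroup m t e' Q ∧
      ActsAbsolutelyIrreducibly (matrixSet (⨆ i, L i)) ∧ NormalizedBy H (⨆ i, L i) := by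
  obtain ⟨m, e', Q, S, h1, h2, h3, h4, h5, _, h7, h8, h9⟩ :=
    exists_tensor_data' hn H hgood t L ht hle hperf hcomm hperm htrans hns
  exact ⟨m, e', Q, S, h1, h2, h3, h4, h5, h7, h8, h9⟩

/-- Factors of dimension 2: the join of the `L i` fixes a non-zero bilinear form (tensor power of the
determinant form), extracted from helper16's M8.3. -/
theorem exists_bilin_of_tensor_data_two {t : ℕ} (L : Fin t → Subgroup (GL (Fin n) F))
    (e' : Fin n ≃ (Fin t → Fin 2)) (Q : GL (Fin n) F) (S : Subgroup (GL (Fin 2) F))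
    (hdet : ∀ a ∈ S, ((a : GL (Fin 2) F) : Matrix (Fin 2) (Fin 2) F).det = 1)
    (hpos : ∀ i, ∀ y ∈ L i, ∃ a ∈ S, (y : Matrix (Fin n) (Fin n) F) =
        (Q : Matrix (Fin n) (Fin n) F) *
          Matrix.reindex e'.symm e'.symm
            (posEmb i ((a : GL (Fin 2) F) : Matrix (Fin 2) (Fin 2) F)) *
          ((Q⁻¹ : GL (Fin n) F) : Matrix (Fin n) (Fin n) F)) :
    ∃ B : Matrix (Fin n) (Fin n) F, B ≠ 0 ∧ ∀ g ∈ matrixSet (⨆ i, L i), gᵀ * B * g = B := by
  classical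
  set Rq : Matrix (Fin t → Fin 2) (Fin t → Fin 2) F ≃ₐ[F] Matrix (Fin n) (Fin n) F :=
    Matrix.reindexAlgEquiv F F e'.symm with hRq
  set J : Matrix (Fin t → Fin 2) (Fin t → Fin 2) F :=
    pureT (fun _ : Fin t => (!![0, 1; -1, 0] : Matrix (Fin 2) (Fin 2) F)) with hJ
  set B : Matrix (Fin n) (Fin n) F :=
    ((Q⁻¹ : GL (Fin n) F) : Matrix (Fin n) (Fin n) F)ᵀ * Rq J *
      ((Q⁻¹ : GL (Fin n) F) : Matrix (Fin n) (Fin n) F) with hB
  have hQQ : ((Q⁻¹ : GL (Fin n) F) : Matrix (Fin n) (Fin n) F) * (Q : Matrix (Fin n) (Fin n) F) = 1 := by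
    rw [← Units.val_mul, inv_mul_cancel, Units.val_one]
  have hRqT : ∀ X : Matrix (Fin t → Fin 2) (Fin t → Fin 2) F, (Rq X)ᵀ = Rq Xᵀ := by
    intro X
    rfl
  have hBne : B ≠ 0 := by
    intro h0
    have h1 : Rq J = 0 := by
      have : (Q : Matrix (Fin n) (Fin n) F)ᵀ * B * (Q : Matrix (Fin n) (Fin n) F) = Rq J := by
        rw [hB]
        calc (Q : Matrix (Fin n) (Fin n) F)ᵀ *
              (((Q⁻¹ : GL (Fin n) F) : Matrix (Fin n) (Fin n) F)ᵀ * Rq J *
                ((Q⁻¹ : GL (Fin n) F) : Matrix (Fin n) (Fin n) F)) * (Q : Matrix (Fin n) (Fin n) F)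
            = ((Q : Matrix (Fin n) (Fin n) F)ᵀ * ((Q⁻¹ : GL (Fin n) F) : Matrix (Fin n) (Fin n) F)ᵀ) * Rq J *
                (((Q⁻¹ : GL (Fin n) F) : Matrix (Fin n) (Fin n) F) * (Q : Matrix (Fin n) (Fin n) F)) := by
              simp only [mul_assoc]
          _ = Rq J := by rw [← Matrix.transpose_mul, hQQ, Matrix.transpose_one, one_mul, mul_one]
      rw [← this, h0, mul_zero, zero_mul]
    have h2 : J = 0 := by
      apply Rq.injective
      rw [h1, map_zero]
    exact pureT_J_ne_zero h2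
  refine ⟨B, hBne, ?_⟩
  rintro _ ⟨g, hg, rfl⟩
  refine form_fixed_of_mem_iSup L B ?_ g hg
  intro i y hy
  obtain ⟨a, ha, hx⟩ := hpos i y hy
  have hfixJ := posEmb_fixes_pureT_J (F := F) (t := t) i _ (hdet a ha)
  rw [hx]
  set p := posEmb (t := t) i ((a : GL (Fin 2) F) : Matrix (Fin 2) (Fin 2) F) with hp
  have hpp : Matrix.reindex e'.symm e'.symm p = Rq p := rfl
  rw [hpp, hB, Matrix.transpose_mul, Matrix.transpose_mul, hRqT]
  calc ((Q⁻¹ : GL (Fin n) F) : Matrix (Fin n) (Fin n) F)ᵀ * (Rq pᵀ * (Q : Matrix (Fin n) (Fin n) F)ᵀ) *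
        (((Q⁻¹ : GL (Fin n) F) : Matrix (Fin n) (Fin n) F)ᵀ * Rq J *
          ((Q⁻¹ : GL (Fin n) F) : Matrix (Fin n) (Fin n) F)) *
        ((Q : Matrix (Fin n) (Fin n) F) * Rq p * ((Q⁻¹ : GL (Fin n) F) : Matrix (Fin n) (Fin n) F))
      = ((Q⁻¹ : GL (Fin n) F) : Matrix (Fin n) (Fin n) F)ᵀ * Rq pᵀ *
          ((Q : Matrix (Fin n) (Fin n) F)ᵀ * ((Q⁻¹ : GL (Fin n) F) : Matrix (Fin n) (Fin n) F)ᵀ) * Rq J *
          (((Q⁻¹ : GL (Fin n) F) : Matrix (Fin n) (Fin n) F) * (Q : Matrix (Fin n) (Fin n) F)) * Rq p *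
          ((Q⁻¹ : GL (Fin n) F) : Matrix (Fin n) (Fin n) F) := by simp only [mul_assoc]
    _ = ((Q⁻¹ : GL (Fin n) F) : Matrix (Fin n) (Fin n) F)ᵀ * (Rq pᵀ * Rq J * Rq p) *
          ((Q⁻¹ : GL (Fin n) F) : Matrix (Fin n) (Fin n) F) := by
        rw [← Matrix.transpose_mul, hQQ, Matrix.transpose_one]
        simp only [mul_one, mul_assoc]
    _ = ((Q⁻¹ : GL (Fin n) F) : Matrix (Fin n) (Fin n) F)ᵀ * Rq J *
          ((Q⁻¹ : GL (Fin n) F) : Matrix (Fin n) (Fin n) F) := by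
        rw [← map_mul, ← map_mul, hfixJ]

end Cfsg.Agent.Lib.Lead.Asch
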