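/-
Aschbacher's theorem, linear case (S5630): final assembly (lead).
`main_strong : STame H ∨ InLinearResidualClass H` for every subgroup `H` of `GL_n(F)`, `n ≥ 3`, from the modules
M1, M6 (helper17), M2, M5 (helper8, helper22), M3 (helper4), M4 (helper20), M7 (helper1, helper25, helper3),
M8 (helper26, helper16, helper14, helper21, helper22, helper4, helper8, helper18) and the tools U1-U7 (helper3, helper6, helper17, helper20).
-/
import Cfsg.Agent.Lib.Lead.AschDefs2
import Cfsg.Agent.Lib.H17.AschM1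
import Cfsg.Agent.Lib.H17.AschM6
import Cfsg.Agent.Lib.H8.AschM2
import Cfsg.Agent.Lib.H8.AschM5
import Cfsg.Agent.Lib.H4.AschM3
import Cfsg.Agent.Lib.H20.AschM4
import Cfsg.Agent.Lib.H1.AschM7
import Cfsg.Agent.Lib.H26.AschM8

set_option autoImplicit false

namespace Cfsg.Agent.Lib.Lead.Asch

open Cfsg Cfsg.Geo
open scoped MatrixGroups Matrix Kronecker

variable {F : Type*} [Field F] [Fintype F] {n : ℕ}

theorem good_of_not_tame (hn : 0 < n) (H : Subgroup (GL (Fin n) F)) (hnt : ¬ STame H) : Good H := by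
  have hirr : ActsIrreducibly (matrixSet H) := by
    by_contra h
    exact hnt (Or.inl (Cfsg.Agent.Lib.H17.Asch.tame_of_reducible H h))
  refine ⟨hirr, fun N hNH hnorm => ?_⟩
  obtain ⟨D⟩ := Cfsg.Agent.Lib.H8.Asch.exists_homogData hn H N hirr hnt hNH hnorm
  by_cases habs : ActsAbsolutelyIrreducibly (repSet D.ρ)
  · by_cases hd : D.d ≤ 1
    · exact Or.inl (Cfsg.Agent.Lib.H8.Asch.le_scalars_of_homog_d_le_one N D hd)
    · by_cases hk : D.k ≤ 1
      · exact Or.inr (Cfsg.Agent.Lib.H8.Asch.absIrr_of_homog_k_le_one hn N D habs hk)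
      · refine absurd ?_ hnt
        rcases Cfsg.Agent.Lib.H20.Asch.tame_of_homog_tensor H N hnorm D habs (by omega) (by omega)
          with h | h | h
        · exact Or.inr (Or.inr (Or.inr (Or.inl h)))
        · exact Or.inr (Or.inr (Or.inr (Or.inr (Or.inr (Or.inr (Or.inl h))))))
        · exact Or.inr (Or.inr (Or.inr (Or.inr (Or.inr (Or.inr (Or.inr h))))))
  · exact absurd (Or.inr (Or.inr (Or.inl
      (Cfsg.Agent.Lib.H4.Asch.tame_of_homog_not_absIrr hn H N hnorm D habs)))) hnt

/-- The class-by-class form of S5630, for every subgroup of `GL_n(F)`, `n ≥ 3`. -/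
theorem main_strong (hn : 3 ≤ n) (H : Subgroup (GL (Fin n) F)) :
    STame H ∨ InLinearResidualClass H := by
  by_cases hnt : STame H
  · exact Or.inl hnt
  have hgood : Good H := good_of_not_tame (by omega) H hnt
  have hns : ¬ H ≤ scalars (Fin n) F :=
    Cfsg.Agent.Lib.H17.Asch.not_le_scalars_of_irreducible (by omega) H hgood.irr
  obtain ⟨N, hmin⟩ := Cfsg.Agent.Lib.H17.Asch.exists_minimalModScalars H hns
  by_cases hab : ∀ x ∈ N, ∀ y ∈ N, x * y * x⁻¹ * y⁻¹ ∈ scalars (Fin n) F
  · rcases Cfsg.Agent.Lib.H1.Asch.tame_of_abelian_minimal hn H N hgood hmin hab with h | h | h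
    · exact Or.inl (Or.inr (Or.inr (Or.inr (Or.inr (Or.inl h)))))
    · exact Or.inl (Or.inr (Or.inr (Or.inr (Or.inr (Or.inr (Or.inl h))))))
    · exact Or.inl (Or.inr (Or.inr (Or.inr (Or.inr (Or.inr (Or.inr (Or.inr h)))))))
  · have h8 := Cfsg.Agent.Lib.H26.Asch.tame_or_residual_of_nonabelian_minimal hn H N hgood hmin hab
    refine h8.elim (fun h57 => Or.inl ?_) Or.inr
    refine h57.elim (fun h => ?_) (fun h78 => h78.elim (fun h => ?_) (fun h => ?_))
    · exact Or.inr (Or.inr (Or.inr (Or.inr (Or.inl h))))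
    · exact Or.inr (Or.inr (Or.inr (Or.inr (Or.inr (Or.inr (Or.inl h))))))
    · exact Or.inr (Or.inr (Or.inr (Or.inr (Or.inr (Or.inr (Or.inr h))))))

/-- S5630 for every subgroup of `GL_n(F)`, `n ≥ 3`. -/
theorem main (hn : 3 ≤ n) (H : Subgroup (GL (Fin n) F)) : Tame H ∨ InLinearResidualClass H :=
  (main_strong hn H).imp STame.tame id

end Cfsg.Agent.Lib.Lead.Asch
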