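import Cfsg.Agent.Lib.H23.BlockLocal

/-!
# Integrality in `ℤ[ζ]`, `ζ` a root of unity of 2-power order, at a prime over `2` (lead)

`M` a maximal ideal of the algebraic integers containing `2`, `ζ ^ (2 ^ e) = -1`, `P ∈ ℤ[X]` of degree
`< 2 ^ e`.  If `P(ζ) = 2 ^ h * r` with `r` in the local ring at `M`, then `2 ^ h` divides every
coefficient of `P` (`two_pow_dvd_coeff_of_aeval`): `1, ζ, …, ζ^(2^e - 1)` is an integral basis at `2`.
Proof: `s = ζ - 1` satisfies `s ^ (2^e) = -2 u` with `u ≡ 1` a unit (Eisenstein), and the coefficients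
in the basis `s^t` are peeled off one at a time.
-/

set_option autoImplicit false

namespace Cfsg.Agent.Lib.Lead.KZ

open Cfsg Cfsg.Agent.Lib.H23 Polynomial

variable {M : Ideal AlgInt}

theorem memLocalRing_intCast' [M.IsPrime] (a : ℤ) : MemLocalRing M (a : ℂ) :=
  intCast_mem (localRing M) a

theorem memLocalRing_aeval [M.IsPrime] {s : ℂ} (hs : MemLocalRing M s) (W : ℤ[X]) :
    MemLocalRing M (aeval s W) := by
  rw [aeval_eq_sum_range]
  refine memLocalRing_sum _ _ fun i _ => ?_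
  rw [zsmul_eq_mul]
  exact memLocalRing_mul (memLocalRing_intCast' _) (memLocalRing_pow hs i)

theorem memLocalIdeal_of_pow [hP : M.IsPrime] {s : ℂ} (hs : MemLocalRing M s) :
    ∀ n : ℕ, MemLocalIdeal M (s ^ n) → MemLocalIdeal M s := by
  intro n
  induction n with
  | zero =>
    intro h
    rw [pow_zero] at h
    exact absurd h not_memLocalIdeal_one
  | succ n ih =>
    intro h
    by_contra hs'
    rw [pow_succ] at h
    have := not_memLocalIdeal_mul (memLocalRing_pow hs n) (fun h' => hs' (ih h')) hs'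
    exact this h

/-- `ζ` with `ζ ^ (2 ^ e) = -1` is an algebraic integer. -/
theorem memLocalRing_of_pow_eq_neg_one (hM : IsPModular 2 M) (e : ℕ) (ζ : ℂ)
    (hζ : ζ ^ (2 ^ e) = -1) : MemLocalRing M ζ := by
  have hP := isPrime_of_isPModular hM
  have hint : IsIntegral ℤ ζ := by
    refine ⟨X ^ (2 ^ (e + 1)) - 1, monic_X_pow_sub_C 1 (by positivity), ?_⟩
    simp [pow_succ, pow_mul, hζ]
  exact memLocalRing_coe hP.ne_top ⟨ζ, hint⟩

/-- The Eisenstein relation: `(X + 1) ^ (2 ^ e) + 1 = X ^ (2 ^ e) + 2 W` with `W(0) = 1`. -/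
theorem exists_eisenstein (e : ℕ) :
    ∃ W : ℤ[X], (X + 1 : ℤ[X]) ^ (2 ^ e) + 1 - X ^ (2 ^ e) = C 2 * W ∧ W.coeff 0 = 1 := by
  have hdvd : C (2 : ℤ) ∣ (X + 1 : ℤ[X]) ^ (2 ^ e) + 1 - X ^ (2 ^ e) := by
    rw [C_dvd_iff_dvd_coeff]
    intro i
    have h2 : ((X + 1 : ℤ[X]) ^ (2 ^ e) + 1 - X ^ (2 ^ e)).map (Int.castRingHom (ZMod 2)) = 0 := by
      simp only [Polynomial.map_sub, Polynomial.map_add, Polynomial.map_pow, Polynomial.map_X,
        Polynomial.map_one]
      rw [add_pow_char_pow, one_pow]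
      have : (1 : (ZMod 2)[X]) + 1 = 0 := by
        have h3 : (1 : (ZMod 2)[X]) + 1 = C ((1 : ZMod 2) + 1) := by simp
        rw [h3]
        have : (1 : ZMod 2) + 1 = 0 := by decide
        rw [this, C_0]
      rw [add_assoc, this, add_zero, sub_self]
    have h4 : ((((X + 1 : ℤ[X]) ^ (2 ^ e) + 1 - X ^ (2 ^ e)).coeff i : ℤ) : ZMod 2) = 0 := by
      rw [← eq_intCast (Int.castRingHom (ZMod 2)), ← coeff_map, h2, coeff_zero]
    have h5 := (ZMod.intCast_zmod_eq_zero_iff_dvd _ 2).1 h4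
    exact_mod_cast h5
  obtain ⟨W, hW⟩ := hdvd
  refine ⟨W, hW, ?_⟩
  have h0 := congrArg (fun p : ℤ[X] => p.coeff 0) hW
  simp only [coeff_sub, coeff_add, coeff_one_zero, coeff_C_mul] at h0
  have hpos : 2 ^ e ≠ 0 := by positivity
  rw [coeff_X_pow, if_neg (Ne.symm hpos)] at h0
  have h1 : ((X + 1 : ℤ[X]) ^ (2 ^ e)).coeff 0 = 1 := by
    rw [coeff_zero_eq_eval_zero]
    simp
  rw [h1] at h0
  omega

/-- `s = ζ - 1`: `s` lies in the local ideal, `s ≠ 0`, and `2 = s ^ (2 ^ e) * v` with `v` local. -/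
theorem exists_two_eq (hM : IsPModular 2 M) (e : ℕ) (ζ : ℂ) (hζ : ζ ^ (2 ^ e) = -1) :
    MemLocalIdeal M (ζ - 1) ∧ ζ - 1 ≠ 0 ∧
      ∃ v : ℂ, MemLocalRing M v ∧ (2 : ℂ) = (ζ - 1) ^ (2 ^ e) * v := by
  have hP := isPrime_of_isPModular hM
  set s := ζ - 1 with hs
  have hζR := memLocalRing_of_pow_eq_neg_one hM e ζ hζ
  have hsR : MemLocalRing M s := memLocalRing_sub hζR (memLocalRing_one hP.ne_top)
  obtain ⟨W, hW, hW0⟩ := exists_eisenstein e
  have h1 := congrArg (fun p : ℤ[X] => aeval s p) hW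
  simp only [map_sub, map_add, map_pow, aeval_X, map_one, map_mul, aeval_C] at h1
  have hs1 : s + 1 = ζ := by rw [hs]; ring
  rw [hs1, hζ] at h1
  have h2 : s ^ (2 ^ e) = -((2 : ℂ) * aeval s W) := by
    have h3 : (algebraMap ℤ ℂ) 2 = (2 : ℂ) := by simp
    rw [h3] at h1
    linear_combination -h1
  set u := aeval s W with hu
  have huR : MemLocalRing M u := memLocalRing_aeval hsR W
  have h2I : MemLocalIdeal M (2 : ℂ) := by
    have := memLocalIdeal_p hM
    simpa using this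
  have hsnI : MemLocalIdeal M (s ^ (2 ^ e)) := by
    rw [h2]
    exact memLocalIdeal_neg (memLocalIdeal_mul_right h2I huR)
  have hsI : MemLocalIdeal M s := memLocalIdeal_of_pow hsR _ hsnI
  -- u = 1 + s * (divX W)(s)
  have hudecomp : u = 1 + s * aeval s W.divX := by
    have h4 : W = W.divX * X + C (W.coeff 0) := (divX_mul_X_add W).symm
    rw [hu]
    conv_lhs => rw [h4]
    simp only [map_add, map_mul, aeval_X, aeval_C, hW0]
    simp
    ring
  have hunI : ¬ MemLocalIdeal M u := by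
    intro h
    have h5 : MemLocalIdeal M (s * aeval s W.divX) :=
      memLocalIdeal_mul_right hsI (memLocalRing_aeval hsR _)
    have h6 := memLocalIdeal_sub h h5
    rw [hudecomp, add_sub_cancel_right] at h6
    exact not_memLocalIdeal_one h6
  have hu0 : u ≠ 0 := ne_zero_of_not_memLocalIdeal hunI
  have huinv : MemLocalRing M u⁻¹ := memLocalRing_inv huR hunI
  refine ⟨hsI, ?_, -u⁻¹, memLocalRing_neg huinv, ?_⟩
  · intro h0
    rw [h0, zero_pow (by positivity)] at h2
    have : (2 : ℂ) * u = 0 := by linear_combination h2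
    rcases mul_eq_zero.1 this with h | h
    · norm_num at h
    · exact hu0 h
  · rw [h2]
    field_simp

/-- Peeling off the coefficients in the basis `s ^ t`. -/
theorem two_dvd_of_sum_eq (hM : IsPModular 2 M) {s : ℂ} (hsI : MemLocalIdeal M s) (hs0 : s ≠ 0)
    (n : ℕ) {v : ℂ} (hv : MemLocalRing M v) (h2 : (2 : ℂ) = s ^ n * v) :
    ∀ k : ℕ, k ≤ n → ∀ (q : ℕ → ℤ) (r : ℂ), MemLocalRing M r →
      ∑ i ∈ Finset.range k, (q i : ℂ) * s ^ i = s ^ k * r → ∀ i < k, (2 : ℤ) ∣ q i := by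
  have hP := isPrime_of_isPModular hM
  have hsR : MemLocalRing M s := memLocalRing_of_memLocalIdeal hsI
  intro k
  induction k with
  | zero => intro _ q r _ _ i hi; exact absurd hi (Nat.not_lt_zero i)
  | succ k ih =>
    intro hk q r hr hsum i hi
    rw [Finset.sum_range_succ'] at hsum
    set S' := ∑ i ∈ Finset.range k, (q (i + 1) : ℂ) * s ^ i with hS'
    have hS'R : MemLocalRing M S' :=
      memLocalRing_sum _ _ fun i _ =>
        memLocalRing_mul (memLocalRing_intCast' _) (memLocalRing_pow hsR i)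
    have hsplit : ∑ i ∈ Finset.range k, (q (i + 1) : ℂ) * s ^ (i + 1) = s * S' := by
      rw [hS', Finset.mul_sum]
      refine Finset.sum_congr rfl fun i _ => ?_
      ring
    rw [hsplit, pow_zero, mul_one] at hsum
    -- q 0 is in the ideal
    have hq0 : (q 0 : ℂ) = s * (s ^ k * r - S') := by linear_combination hsum
    have hq0I : MemLocalIdeal M (q 0 : ℂ) := by
      rw [hq0]
      exact memLocalIdeal_mul_right hsI
        (memLocalRing_sub (memLocalRing_mul (memLocalRing_pow hsR k) hr) hS'R)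
    have hq0d : (2 : ℤ) ∣ q 0 := by
      have := (intCast_memLocalIdeal_iff hM (q 0)).1 hq0I
      simpa using this
    obtain ⟨c, hc⟩ := hq0d
    -- the rest
    have hkn : n = (k + 1) + (n - (k + 1)) := by omega
    set r' := r - s ^ (n - (k + 1)) * v * (c : ℂ) with hr'
    have hr'R : MemLocalRing M r' :=
      memLocalRing_sub hr (memLocalRing_mul (memLocalRing_mul (memLocalRing_pow hsR _) hv)
        (memLocalRing_intCast' c))
    have hrest : S' = s ^ k * r' := by
      have h3 : (q 0 : ℂ) = s ^ (k + 1) * (s ^ (n - (k + 1)) * v * (c : ℂ)) := by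
        rw [hc]
        push_cast
        rw [h2]
        conv_lhs => rw [hkn, pow_add]
        ring
      have h4 : s * S' = s * (s ^ k * r') := by
        rw [hr']
        linear_combination hsum - h3
      exact mul_left_cancel₀ hs0 h4
    have hih := ih (by omega) (fun i => q (i + 1)) r' hr'R hrest
    rcases i with _ | i
    · exact ⟨c, hc⟩
    · exact hih i (by omega)

/-- The case `h = 1`. -/
theorem C_two_dvd_of_aeval (hM : IsPModular 2 M) (e : ℕ) (ζ : ℂ) (hζ : ζ ^ (2 ^ e) = -1)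
    (P : ℤ[X]) (hdeg : P.natDegree < 2 ^ e) (r : ℂ) (hr : MemLocalRing M r)
    (hP : aeval ζ P = 2 * r) : C (2 : ℤ) ∣ P := by
  have hPr := isPrime_of_isPModular hM
  obtain ⟨hsI, hs0, v, hv, h2⟩ := exists_two_eq hM e ζ hζ
  set s := ζ - 1 with hs
  set Pb : ℤ[X] := P.comp (X + 1) with hPb
  have hdegb : Pb.natDegree < 2 ^ e := by
    refine lt_of_le_of_lt natDegree_comp_le ?_
    have : (X + 1 : ℤ[X]).natDegree = 1 := natDegree_X_add_C 1
    rw [this, mul_one]
    exact hdeg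
  have hevalb : aeval s Pb = aeval ζ P := by
    rw [hPb, aeval_comp]
    congr 1
    simp [hs]
  have hsum : ∑ i ∈ Finset.range (2 ^ e), ((Pb.coeff i : ℤ) : ℂ) * s ^ i = s ^ (2 ^ e) * (v * r) := by
    have h3 := aeval_eq_sum_range' hdegb s
    rw [hevalb, hP] at h3
    have h4 : ∑ i ∈ Finset.range (2 ^ e), ((Pb.coeff i : ℤ) : ℂ) * s ^ i =
        ∑ i ∈ Finset.range (2 ^ e), Pb.coeff i • s ^ i :=
      Finset.sum_congr rfl fun i _ => by rw [zsmul_eq_mul]
    rw [h4, ← h3]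
    rw [h2]
    ring
  have hall := two_dvd_of_sum_eq hM hsI hs0 (2 ^ e) hv h2 (2 ^ e) le_rfl (fun i => Pb.coeff i)
    (v * r) (memLocalRing_mul hv hr) hsum
  have hCb : C (2 : ℤ) ∣ Pb := by
    rw [C_dvd_iff_dvd_coeff]
    intro i
    by_cases hi : i < 2 ^ e
    · exact hall i hi
    · rw [coeff_eq_zero_of_natDegree_lt (lt_of_lt_of_le hdegb (not_lt.1 hi))]
      exact dvd_zero _
  obtain ⟨Pb', hPb'⟩ := hCb
  have hback : P = Pb.comp (X - 1) := by
    rw [hPb, comp_assoc]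
    simp
  rw [hback, hPb', mul_comp, C_comp]
  exact dvd_mul_right _ _

/-- **Integrality.** If `P(ζ) = 2 ^ h r` with `r` local, then `2 ^ h` divides all coefficients. -/
theorem two_pow_dvd_coeff_of_aeval (hM : IsPModular 2 M) (e : ℕ) (ζ : ℂ) (hζ : ζ ^ (2 ^ e) = -1) :
    ∀ (h : ℕ) (P : ℤ[X]), P.natDegree < 2 ^ e → ∀ r : ℂ, MemLocalRing M r →
      aeval ζ P = 2 ^ h * r → ∀ i, (2 : ℤ) ^ h ∣ P.coeff i := by
  have hPr := isPrime_of_isPModular hM
  intro h
  induction h with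
  | zero => intro P _ r _ _ i; simp
  | succ h ih =>
    intro P hdeg r hr hP i
    have h2R : MemLocalRing M ((2 : ℂ) ^ h * r) :=
      memLocalRing_mul (memLocalRing_pow (by simpa using memLocalRing_intCast' (M := M) 2) h) hr
    have hP' : aeval ζ P = 2 * ((2 : ℂ) ^ h * r) := by rw [hP]; ring
    obtain ⟨P₁, hP₁⟩ := C_two_dvd_of_aeval hM e ζ hζ P hdeg _ h2R hP'
    have hdeg₁ : P₁.natDegree < 2 ^ e := by
      have : (C (2 : ℤ) * P₁).natDegree = P₁.natDegree := natDegree_C_mul (by norm_num)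
      rw [hP₁, this] at hdeg
      exact hdeg
    have hev : aeval ζ P₁ = 2 ^ h * r := by
      have h3 : aeval ζ P = 2 * aeval ζ P₁ := by
        rw [hP₁, map_mul, aeval_C]
        simp
      rw [h3] at hP'
      exact mul_left_cancel₀ (by norm_num : (2 : ℂ) ≠ 0) hP'
    have := ih P₁ hdeg₁ r hr hev i
    rw [hP₁, coeff_C_mul, pow_succ, mul_comm]
    exact mul_dvd_mul_left 2 this

/-- Variant with an odd factor `m'` in front. -/
theorem two_pow_dvd_coeff_of_odd_mul_aeval (hM : IsPModular 2 M) (e : ℕ) (ζ : ℂ)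
    (hζ : ζ ^ (2 ^ e) = -1) (h : ℕ) (P : ℤ[X]) (hdeg : P.natDegree < 2 ^ e) (m' : ℕ)
    (hm' : ¬ 2 ∣ m') (r : ℂ) (hr : MemLocalRing M r)
    (hP : (m' : ℂ) * aeval ζ P = 2 ^ h * r) (i : ℕ) : (2 : ℤ) ^ h ∣ P.coeff i := by
  have hPr := isPrime_of_isPModular hM
  have hinv := memLocalRing_inv_natCast hM hm'
  have hm0 : (m' : ℂ) ≠ 0 := by
    intro h0
    apply hm'
    have : m' = 0 := by exact_mod_cast h0
    rw [this]
    exact dvd_zero _
  refine two_pow_dvd_coeff_of_aeval hM e ζ hζ h P hdeg ((m' : ℂ)⁻¹ * r)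
    (memLocalRing_mul hinv hr) ?_ i
  field_simp
  linear_combination hP

end Cfsg.Agent.Lib.Lead.KZ
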